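import Groth.Agent.LocSuppLib.DepthStalk
import Groth.Agent.AssPointLib.Basic
import Groth.Agent.S5173
import Groth.Agent.S11618
import Groth.Agent.S11625
import Groth.Agent.LocCohLib.Facts

/-! # Vanishing of local cohomology sheaves above the dimension of the local rings -/

set_option autoImplicit false
set_option backward.isDefEq.respectTransparency false
set_option backward.isDefEq.respectTransparency.types false

universe u

open CategoryTheory AlgebraicGeometry TopologicalSpace Opposite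

namespace LocVanShLib

/-- Grothendieck vanishing along an ideal: local cohomology vanishes above the heights of the primes
containing the ideal. -/
theorem subsingleton_H {A : Type u} [CommRing A] [IsNoetherianRing A] (I : Ideal A) (N : Type u)
    [AddCommGroup N] [Module A N] (i : ℕ)
    (h : ∀ (p : Ideal A) [p.IsPrime], I ≤ p → ringKrullDim (Localization.AtPrime p) < (i : WithBot ℕ∞)) :
    Subsingleton (LocCoh.H I i N) := by
  refine (Module.support_eq_empty_iff (R := A)).mp (Set.eq_empty_of_forall_notMem fun p hp => ?_)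
  rw [Module.mem_support_iff] at hp
  refine not_subsingleton_iff_nontrivial.mpr hp ?_
  by_cases hIp : I ≤ p.asIdeal
  · obtain ⟨e⟩ := Groth.Agent.S11618.result A I p.asIdeal.primeCompl N i
    haveI : IsNoetherianRing (Localization p.asIdeal.primeCompl) :=
      IsLocalization.isNoetherianRing p.asIdeal.primeCompl _ inferInstance
    haveI := Groth.Agent.S11625.result (Localization p.asIdeal.primeCompl)
      (Ideal.map (algebraMap A (Localization p.asIdeal.primeCompl)) I)
      (LocalizedModule p.asIdeal.primeCompl N) i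
      (lt_of_le_of_lt (Module.supportDim_le_ringKrullDim _ _) (h p.asIdeal hIp))
    exact e.toEquiv.subsingleton
  · obtain ⟨a, haI, hap⟩ := SetLike.not_le_iff_exists.mp hIp
    refine LocalizedModule.subsingleton_iff.mpr fun x => ?_
    obtain ⟨n, hn⟩ := LocCohLib.isPowerTorsion_H I i N x
    exact ⟨a ^ n, fun hmem => hap (p.isPrime.mem_of_pow_mem n hmem), hn _ (Ideal.pow_mem_pow haI n)⟩

variable {X : Scheme.{u}} [IsLocallyNoetherian X] (U : X.Opens) {M : X.Modules}

/-- Cohomology with supports over an affine open vanishes above the dimensions of the local rings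
at the points outside the open. -/
theorem subsingleton_HZ_affine [Coh.IsQCoh M] {V : X.Opens} (hV : IsAffineOpen V) (i : ℕ)
    (hi : ∀ x : X, x ∈ V → x ∉ (U : Set X) → ringKrullDim (X.presheaf.stalk x) < (i : WithBot ℕ∞)) :
    Subsingleton (LocCohZ.HZ (X := X.carrier) (Coh.toAb M) i (inf_le_right : U ⊓ V ≤ V)) := by
  haveI : IsAffine V.toScheme := hV
  have hV' : IsAffineOpen (V.ι ''ᵁ ⊤) := (isAffineOpen_top V.toScheme).image_of_isOpenImmersion V.ι
  have hVV : V.ι ''ᵁ ⊤ = V := by simp
  haveI : Coh.IsQCoh (M.restrict V.ι) :=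
    have := KFlatLib.isQCoh_pullback V.ι M
    QCohLib.isQCoh_of_iso ((Scheme.Modules.restrictFunctorIsoPullback V.ι).app M).symm
  haveI : IsNoetherianRing Γ(X, V.ι ''ᵁ ⊤) := IsLocallyNoetherian.component_noetherian ⟨_, hV'⟩
  haveI : IsNoetherianRing Γ(V.toScheme, ⊤) := ‹IsNoetherianRing Γ(X, V.ι ''ᵁ ⊤)›
  obtain ⟨fs, hfs⟩ := LocSuppLib.exists_list_cover U hV'
  let fs' : List Γ(V.toScheme, ⊤) := fs
  have h1 : ∀ a, V.ι ''ᵁ V.toScheme.basicOpen (fs'.get a) = X.basicOpen (fs.get a) := fun a => by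
    rw [Scheme.image_basicOpen, Scheme.Opens.ι_appIso]
    rfl
  have h2 : V.ι ''ᵁ (⨆ j, KoszLib.Uf fs'.get j) = U ⊓ V := by
    rw [Scheme.Hom.image_iSup, ← congrArg (U ⊓ ·) hVV, ← hfs]
    exact le_antisymm (iSup_le fun j => (h1 j.down).le.trans (le_iSup (fun a => X.basicOpen (fs.get a)) j.down))
      (iSup_le fun a => (h1 a).ge.trans (le_iSup (fun j => V.ι ''ᵁ KoszLib.Uf fs'.get j) ⟨a⟩))
  have hin : (⨆ j, KoszLib.Uf fs'.get j) = SuppFam.inOpen (X := X.carrier) V U := by
    apply Opens.ext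
    apply Set.image_injective.mpr Subtype.val_injective
    exact (congrArg (fun O : X.Opens => (O : Set X)) h2).trans
      (congrArg (fun O : X.Opens => (O : Set X)) (LocSuppLib.img_inOpen (X := X.carrier) U V).symm)
  obtain ⟨e⟩ := LocSuppLib.nonempty_HZ_restr_equiv (X := X.carrier) U (Coh.toAb M) V i
  obtain ⟨e₁⟩ := KoszLib.nonempty_HZc_equiv (M.restrict V.ι) fs' i
  obtain ⟨e₂⟩ := Groth.Agent.S5173.result Γ(V.toScheme, ⊤) fs' Γ(M.restrict V.ι, ⊤) i
  suffices hH : Subsingleton (LocCoh.H (Ideal.span {a | a ∈ fs'}) i Γ(M.restrict V.ι, ⊤)) by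
    haveI := e₂.toEquiv.symm.subsingleton
    haveI h3 := e₁.toEquiv.symm.subsingleton
    rw [e.toEquiv.subsingleton_congr]
    rw [hin] at h3
    exact h3
  refine subsingleton_H _ _ i fun p _ hp => ?_
  let hT : IsAffineOpen (⊤ : V.toScheme.Opens) := isAffineOpen_top _
  let q : PrimeSpectrum Γ(V.toScheme, ⊤) := ⟨p, inferInstance⟩
  have hqU : V.ι (hT.fromSpec q) ∉ (U : Set X) := by
    intro hU
    have hmem : hT.fromSpec q ∈ (⨆ j, KoszLib.Uf fs'.get j) := by
      have : V.ι (hT.fromSpec q) ∈ V.ι ''ᵁ (⨆ j, KoszLib.Uf fs'.get j) :=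
        h2.ge ⟨hU, (hT.fromSpec q).2⟩
      obtain ⟨z, hz, hze⟩ := this
      exact V.ι.isOpenEmbedding.injective hze ▸ hz
    obtain ⟨j, hj⟩ := Opens.mem_iSup.mp hmem
    have h4 := (AssPointLib.mem_basicOpen_iff hT (Set.mem_univ (hT.fromSpec q)) (fs'.get j.down)).mp hj
    have h5 : hT.primeIdealOf ⟨hT.fromSpec q, Set.mem_univ _⟩ = q :=
      hT.fromSpec.isOpenEmbedding.injective (hT.fromSpec_primeIdealOf _)
    exact h4 (by rw [h5]; exact hp (Ideal.subset_span (List.get_mem fs' j.down)))
  have h6 := hi _ (hT.fromSpec q).2 hqU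
  letI alg := V.toScheme.presheaf.algebra_section_stalk (⟨hT.fromSpec q, Set.mem_univ _⟩ : (⊤ : V.toScheme.Opens))
  haveI : IsLocalization.AtPrime (V.toScheme.presheaf.stalk (hT.fromSpec q)) p :=
    hT.isLocalization_stalk' q (Set.mem_univ _)
  rw [ringKrullDim_eq_of_ringEquiv ((IsLocalization.algEquiv p.primeCompl (Localization.AtPrime p)
    (V.toScheme.presheaf.stalk (hT.fromSpec q))).toRingEquiv.trans
    (V.stalkIso (hT.fromSpec q)).commRingCatIsoToRingEquiv)]
  exact h6

theorem isZero_HZsh_of_dim_lt [Coh.IsQCoh M] (i : ℕ)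
    (hi : ∀ x : X, x ∉ (U : Set X) → ringKrullDim (X.presheaf.stalk x) < (i : WithBot ℕ∞)) :
    Limits.IsZero ((LocCohZ.HZsh (X := X.carrier) U i).obj (Coh.toAb M)) :=
  LocSuppLib.isZero_HZsh_of_subsingleton (X := X.carrier) U (Coh.toAb M) X.isBasis_affineOpens i
    fun _ hV => subsingleton_HZ_affine U hV i fun x _ hx => hi x hx

end LocVanShLib
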